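import Groth.Agent.TraceRed70.Ring
import Groth.Agent.VBLib.PushTrace
import Groth.Agent.RankLocus.Basic
import Groth.Agent.KFlat.LocFree

/-!
# The trace pairing of a finite cover with reduced generic fibre
-/

set_option autoImplicit false
set_option linter.style.haveILetI false

universe u

open CategoryTheory AlgebraicGeometry Limits Opposite TopologicalSpace
open scoped TensorProduct

noncomputable section

namespace Groth.Agent.TraceRed70

open Groth.Agent.FinCov71 Groth.Agent.VBLib Groth.Agent.VBLib.PushTrace

variable {X Y : Scheme.{u}} (f : X ⟶ Y) [IsFinite f] [IsIntegral Y]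

/-- Trace-orthogonal sections over an affine open vanish. -/
theorem eq_zero_of_tr [CharZero (Y.residueField (genericPoint Y))]
    (hred : IsReduced (f.fiber (genericPoint Y)))
    {V : Y.Opens} (hV : IsAffineOpen V) (hη : genericPoint Y ∈ V) (hf : HasFrame (pushO f) V)
    (a : Sec (alg f) V) (h : ∀ b, tr (alg f) V (a * b) = 0) : a = 0 := by
  haveI := hf.free.1
  haveI := hf.free.2
  letI algK : Algebra Γ(Y, V) (Y.residueField (genericPoint Y)) :=
    ((Y.presheaf.germ V (genericPoint Y) hη) ≫ Y.residue (genericPoint Y)).hom.toAlgebra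
  have hinj : Function.Injective (algebraMap Γ(Y, V) (Y.residueField (genericPoint Y))) := by
    have h1 : Function.Injective (Y.residue (genericPoint Y)).hom := by
      letI : Field (Y.presheaf.stalk (genericPoint Y)) := inferInstanceAs (Field Y.functionField)
      exact (Y.residue (genericPoint Y)).hom.injective
    exact h1.comp (germ_injective_of_isIntegral Y (genericPoint Y) hη)
  have sq : IsPullback (hV.preimage f).fromSpec (Spec.map (f.app V)) f hV.fromSpec := by
    refine (IsOpenImmersion.isPullback _ _ _ _ ?_ ?_).flip
    · rw [Scheme.Hom.app_eq_appLE]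
      exact (hV.SpecMap_appLE_fromSpec f (hV.preimage f) le_rfl).symm
    · rw [IsAffineOpen.opensRange_fromSpec, IsAffineOpen.opensRange_fromSpec]
  haveI hR : _root_.IsReduced ((Y.residueField (genericPoint Y)) ⊗[Γ(Y, V)] Sec (alg f) V) := by
    have hp := isPullback_SpecMap_of_isPushout _ _ _ _
      (CommRingCat.isPushout_tensorProduct Γ(Y, V) (Sec (alg f) V) (Y.residueField (genericPoint Y)))
    have hbase : Spec.map (CommRingCat.ofHom (algebraMap Γ(Y, V) (Y.residueField (genericPoint Y)))) ≫ hV.fromSpec =
        Y.fromSpecResidueField (genericPoint Y) := by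
      rw [Scheme.fromSpecResidueField, ← hV.fromSpecStalk_eq_fromSpecStalk hη, IsAffineOpen.fromSpecStalk,
        ← Category.assoc, ← Spec.map_comp]
      rfl
    have hq := hp.paste_horiz sq
    rw [hbase] at hq
    haveI : IsReduced (pullback f (Y.fromSpecResidueField (genericPoint Y))) := hred
    haveI : IsReduced (Spec (CommRingCat.of (Sec (alg f) V ⊗[Γ(Y, V)] (Y.residueField (genericPoint Y))))) :=
      isReduced_of_isOpenImmersion hq.isoPullback.hom
    haveI : _root_.IsReduced (Sec (alg f) V ⊗[Γ(Y, V)] (Y.residueField (genericPoint Y))) :=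
      (affine_isReduced_iff (CommRingCat.of (Sec (alg f) V ⊗[Γ(Y, V)] (Y.residueField (genericPoint Y))))).1 inferInstance
    exact isReduced_of_injective (Algebra.TensorProduct.comm Γ(Y, V) _ _).toRingHom
      (Algebra.TensorProduct.comm Γ(Y, V) _ _).injective
  exact TraceRed70.eq_zero_of_trace (Y.residueField (genericPoint Y)) hinj h

variable (hA : FlatMod.IsFinLocFree (pushO f))

/-- The trace map to the dual is a monomorphism when the generic fibre is reduced. -/
theorem mono_phi [CharZero (Y.residueField (genericPoint Y))] (hred : IsReduced (f.fiber (genericPoint Y))) :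
    Mono (phi f hA) := by
  refine Omega.Stalks.mono_of_stalk fun y => injective_stalk_of_app _ y fun W hW => ?_
  obtain ⟨V, hyV, hVW, hV, hf⟩ := exists_affine_hasFrame hA hW
  refine ⟨V, hyV, hVW, (injective_iff_map_eq_zero ((phi f hA).app V).hom).mpr fun a ha => ?_⟩
  exact eq_zero_of_tr f hred hV (genericPoint_mem_of_mem hyV) hf (ofMod (alg f) a) fun b =>
    tr_mul_eq_zero f hA hf ha b

end Groth.Agent.TraceRed70
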