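import Mathlib

/-!
# The trace form of a generically reduced finite free algebra in characteristic zero
-/

set_option autoImplicit false

universe u v w

open scoped TensorProduct

namespace Groth.Agent.TraceRed70

/-- In a reduced finite algebra over a field of characteristic zero an element orthogonal to everything
for the trace form vanishes. -/
theorem eq_zero_of_trace_field {K : Type u} {C : Type v} [Field K] [CharZero K] [CommRing C] [Algebra K C]
    [Module.Finite K C] [IsReduced C] {a : C} (h : ∀ z : C, Algebra.trace K C (a * z) = 0) : a = 0 := by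
  haveI : IsArtinianRing C := IsArtinianRing.of_finite K C
  obtain ⟨n, y, hy⟩ := IsArtinian.exists_pow_succ_smul_dvd a (1 : C)
  have hy' : a ^ n * (1 - a * y) = 0 := by
    simp only [smul_eq_mul, mul_one, Nat.succ_eq_add_one, pow_succ] at hy
    rw [mul_sub, mul_one, ← mul_assoc, hy, sub_self]
  have hnil : IsNilpotent (a * (1 - a * y)) := ⟨n + 1, by
    rw [mul_pow, pow_succ a, pow_succ (1 - a * y)]
    calc a ^ n * a * ((1 - a * y) ^ n * (1 - a * y))
        = a * (1 - a * y) ^ n * (a ^ n * (1 - a * y)) := by ring
      _ = 0 := by rw [hy', mul_zero]⟩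
  have ha : a * (1 - a * y) = 0 := hnil.eq_zero
  have hid : IsIdempotentElem (Algebra.lmul K C (a * y)) := by
    show Algebra.lmul K C (a * y) * Algebra.lmul K C (a * y) = _
    rw [← map_mul]
    congr 1
    linear_combination (-y) * ha
  have h0 : Algebra.lmul K C (a * y) = 0 := LinearMap.IsIdempotentElem.eq_zero_of_trace_eq_zero hid (h y)
  have h1 : a * y = 0 := by
    have := LinearMap.congr_fun h0 1
    simpa using this
  rw [mul_sub, mul_one, sub_eq_zero] at ha
  rw [ha, h1, mul_zero]

/-- The trace form of a finite free algebra with reduced generic fibre has trivial kernel. -/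
theorem eq_zero_of_trace {R : Type u} {B : Type v} (K : Type w) [CommRing R] [CommRing B] [Algebra R B]
    [Module.Free R B] [Module.Finite R B] [Field K] [CharZero K] [Algebra R K]
    (hinj : Function.Injective (algebraMap R K)) [IsReduced (K ⊗[R] B)] {a : B}
    (h : ∀ b : B, Algebra.trace R B (a * b) = 0) : a = 0 := by
  have key : ∀ z : K ⊗[R] B, Algebra.trace K (K ⊗[R] B) (((1 : K) ⊗ₜ[R] a) * z) = 0 := by
    intro z
    induction z using TensorProduct.induction_on with
    | zero => simp
    | add x y hx hy => rw [mul_add, map_add, hx, hy, add_zero]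
    | tmul c b =>
      have e1 : ((1 : K) ⊗ₜ[R] a) * (c ⊗ₜ[R] b) = c • ((1 : K) ⊗ₜ[R] (a * b)) := by
        rw [Algebra.TensorProduct.tmul_mul_tmul, one_mul, TensorProduct.smul_tmul', smul_eq_mul, mul_one]
      have e2 : Algebra.lmul K (K ⊗[R] B) ((1 : K) ⊗ₜ[R] (a * b)) = (Algebra.lmul R B (a * b)).baseChange K := by
        ext x
        simp
      rw [e1, map_smul, Algebra.trace_apply, e2, LinearMap.trace_baseChange, ← Algebra.trace_apply, h,
        map_zero, smul_zero]
  have h1 : (1 : K) ⊗ₜ[R] a = 0 := eq_zero_of_trace_field key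
  exact Algebra.TensorProduct.includeRight_injective hinj (h1.trans (map_zero _).symm)

end Groth.Agent.TraceRed70
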